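import Cfsg.Agent.H802.TE.Defs

/-!
# S5261, part E, task TE-LA3: isotropic subgroups, functionals, regular elements
-/

set_option autoImplicit false
set_option linter.unusedSectionVars false

namespace Cfsg.Agent.H544.TE

open Cfsg Cfsg.FusionSystem Cfsg.Agent.H756.PU Cfsg.Agent.H802.TE
open Cfsg.Agent.H765.D3 Cfsg.Agent.H765.D3.Sy
open Cfsg.Agent.Hex.Defs (sh cr nm tr)
open scoped commutatorElement

universe u

/-! ### Bilinear forms with values in `ZMod p` on a finite elementary abelian group -/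

section General

variable {V : Type*} [AddCommGroup V] {p : ℕ} [Fact p.Prime]

/-- `D^⊥` -/
def perp (f : V →+ V →+ ZMod p) (D : AddSubgroup V) : AddSubgroup V where
  carrier := {v | ∀ d ∈ D, f d v = 0}
  zero_mem' := fun d _ => map_zero _
  add_mem' := fun {x y} hx hy d hd => by rw [map_add, hx d hd, hy d hd, add_zero]
  neg_mem' := fun {x} hx d hd => by rw [map_neg, hx d hd, neg_zero]

theorem mem_perp {f : V →+ V →+ ZMod p} {D : AddSubgroup V} {v : V} : v ∈ perp f D ↔ ∀ d ∈ D, f d v = 0 := Iff.rfl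

theorem card_perp_aux {V : Type*} [AddCommGroup V] {p : ℕ} [Fact p.Prime] [Finite V] [Module (ZMod p) V]
    (B : V →ₗ[ZMod p] V →ₗ[ZMod p] ZMod p) (W : Submodule (ZMod p) V) :
    Nat.card W * Nat.card {v : V // ∀ d ∈ W, B d v = 0} = Nat.card V * Nat.card {v : V // v ∈ W ∧ B v = 0} := by
  have key := LinearMap.BilinForm.finrank_add_finrank_orthogonal' (B := B) W
  have e2 : Nat.card (LinearMap.BilinForm.orthogonal B W) = Nat.card {v : V // ∀ d ∈ W, B d v = 0} := by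
    apply Nat.card_congr
    apply Equiv.subtypeEquivRight
    intro v
    exact Iff.rfl
  have e3 : Nat.card (W ⊓ LinearMap.ker B : Submodule (ZMod p) V) = Nat.card {v : V // v ∈ W ∧ B v = 0} := by
    apply Nat.card_congr
    apply Equiv.subtypeEquivRight
    intro v
    rw [Submodule.mem_inf, LinearMap.mem_ker]
  rw [← e2, ← e3, Module.natCard_eq_pow_finrank (K := ZMod p) (V := W),
    Module.natCard_eq_pow_finrank (K := ZMod p) (V := LinearMap.BilinForm.orthogonal B W),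
    Module.natCard_eq_pow_finrank (K := ZMod p) (V := V),
    Module.natCard_eq_pow_finrank (K := ZMod p) (V := (W ⊓ LinearMap.ker B : Submodule (ZMod p) V)),
    ← pow_add, ← pow_add, key]

theorem card_perp_mod {V : Type*} [AddCommGroup V] {p : ℕ} [Fact p.Prime] [Finite V] [Module (ZMod p) V]
    (f : V →+ V →+ ZMod p) (D : AddSubgroup V) :
    Nat.card D * Nat.card (perp f D) = Nat.card V * Nat.card (D ⊓ f.ker : AddSubgroup V) := by
  let B : V →ₗ[ZMod p] V →ₗ[ZMod p] ZMod p := LinearMap.mk₂ (ZMod p) (fun v w => f v w)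
    (fun v w x => by rw [map_add]; rfl) (fun c v w => by
      have h : f (c • v) = c • f v := ZMod.map_smul f c v
      rw [h]; rfl) (fun v w x => by rw [map_add]) (fun c v w => by
      rw [ZMod.map_smul])
  have h := card_perp_aux B (AddSubgroup.toZModSubmodule p D)
  have e3 : Nat.card (D ⊓ f.ker : AddSubgroup V) =
      Nat.card {v : V // v ∈ AddSubgroup.toZModSubmodule p D ∧ B v = 0} := by
    apply Nat.card_congr
    apply Equiv.subtypeEquivRight
    intro v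
    rw [AddSubgroup.mem_inf, AddMonoidHom.mem_ker]
    refine and_congr Iff.rfl ⟨fun h => ?_, fun h => ?_⟩
    · ext w
      exact DFunLike.congr_fun h w
    · ext w
      exact LinearMap.congr_fun h w
  rw [e3]
  exact h

/-- `|D| |D^⊥| = |V| |D ∩ rad f|` -/
theorem card_perp [Finite V] (hV : ∀ v : V, p • v = 0) (f : V →+ V →+ ZMod p) (D : AddSubgroup V) :
    Nat.card D * Nat.card (perp f D) = Nat.card V * Nat.card (D ⊓ f.ker : AddSubgroup V) :=
  @card_perp_mod V _ p _ _ (AddCommGroup.zmodModule hV) f D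

/-- isotropic subgroups: `|D|² ≤ |V| |D ∩ rad f|` (`f` need not be alternating) -/
theorem iso_card [Finite V] (hV : ∀ v : V, p • v = 0) (f : V →+ V →+ ZMod p) (D : AddSubgroup V)
    (hD : ∀ x ∈ D, ∀ y ∈ D, f x y = 0) :
    Nat.card D ^ 2 ≤ Nat.card V * Nat.card (D ⊓ f.ker : AddSubgroup V) := by
  rw [← card_perp hV, sq]
  apply Nat.mul_le_mul_left
  exact Nat.card_le_card_of_injective _ (AddSubgroup.inclusion_injective (fun x hx d hd => hD d hd x hx : D ≤ perp f D))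

theorem iso_card_nd [Finite V] (hV : ∀ v : V, p • v = 0) (f : V →+ V →+ ZMod p) (D : AddSubgroup V)
    (hD : ∀ x ∈ D, ∀ y ∈ D, f x y = 0) (hnd : ∀ x ∈ D, (∀ y, f x y = 0) → x = 0) :
    Nat.card D ^ 2 ≤ Nat.card V := by
  have h := iso_card hV f D hD
  have e : (D ⊓ f.ker : AddSubgroup V) = ⊥ := by
    rw [eq_bot_iff]
    rintro x ⟨hx, hx'⟩
    rw [AddSubgroup.mem_bot]
    exact hnd x hx fun y => by rw [AddMonoidHom.mem_ker.1 hx']; rfl
  rw [e, AddSubgroup.card_bot, mul_one] at h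
  exact h

/-- `{l | μ (l b) = 0 for all b ∈ B}` for a nondegenerate form `f`: order `|V| / |B|` -/
theorem card_perp_nd [Finite V] (hV : ∀ v : V, p • v = 0) (f : V →+ V →+ ZMod p) (D : AddSubgroup V)
    (hnd : ∀ x ∈ D, (∀ y, f x y = 0) → x = 0) : Nat.card D * Nat.card (perp f D) = Nat.card V := by
  have h := card_perp hV f D
  have e : (D ⊓ f.ker : AddSubgroup V) = ⊥ := by
    rw [eq_bot_iff]
    rintro x ⟨hx, hx'⟩
    rw [AddSubgroup.mem_bot]
    exact hnd x hx fun y => by rw [AddMonoidHom.mem_ker.1 hx']; rfl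
  rw [e, AddSubgroup.card_bot, mul_one] at h
  exact h

theorem exists_functional_mod {V : Type*} [AddCommGroup V] {p : ℕ} [Fact p.Prime] [Module (ZMod p) V]
    {Y : AddSubgroup V} (hY : Y ≠ ⊤) : ∃ lam : V →+ ZMod p, lam ≠ 0 ∧ ∀ y ∈ Y, lam y = 0 := by
  obtain ⟨x, hx⟩ : ∃ x, x ∉ Y := by
    by_contra hcon
    push Not at hcon
    exact hY (eq_top_iff.2 fun x _ => hcon x)
  obtain ⟨g, hg, hg2⟩ : ∃ g : Module.Dual (ZMod p) V, g x ≠ 0 ∧ (AddSubgroup.toZModSubmodule p Y).map g = ⊥ :=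
    Submodule.exists_dual_map_eq_bot_of_notMem (R := ZMod p)
    (p := AddSubgroup.toZModSubmodule p Y) (x := x) hx inferInstance
  refine ⟨g.toAddMonoidHom, fun h => hg ?_, fun y hy => ?_⟩
  · have := DFunLike.congr_fun h x
    exact this
  · have : g y ∈ (AddSubgroup.toZModSubmodule p Y).map g := Submodule.mem_map_of_mem hy
    rw [hg2] at this
    exact this

/-- a proper subgroup of an elementary abelian group lies in the kernel of a nonzero functional -/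
theorem exists_functional (hV : ∀ v : V, p • v = 0) {Y : AddSubgroup V} (hY : Y ≠ ⊤) :
    ∃ lam : V →+ ZMod p, lam ≠ 0 ∧ ∀ y ∈ Y, lam y = 0 :=
  @exists_functional_mod V _ p _ (AddCommGroup.zmodModule hV) Y hY

theorem surjective_nd_mod {V : Type*} [AddCommGroup V] {p : ℕ} [Fact p.Prime] [Finite V] [Module (ZMod p) V]
    (f : V →+ V →+ ZMod p) (hnd : ∀ x, (∀ y, f x y = 0) → x = 0) : Function.Surjective f := by
  let B : V →ₗ[ZMod p] Module.Dual (ZMod p) V := LinearMap.mk₂ (ZMod p) (fun v w => f v w)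
    (fun v w x => by rw [map_add]; rfl) (fun c v w => by
      have h : f (c • v) = c • f v := ZMod.map_smul f c v
      rw [h]; rfl) (fun v w x => by rw [map_add]) (fun c v w => by
      rw [ZMod.map_smul])
  have hB : Function.Injective B := by
    rw [injective_iff_map_eq_zero]
    intro x hx
    exact hnd x fun y => LinearMap.congr_fun hx y
  have hs := (LinearMap.injective_iff_surjective_of_finrank_eq_finrank (f := B)
    (Subspace.dual_finrank_eq (K := ZMod p) (V := V)).symm).1 hB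
  intro μ
  obtain ⟨v, hv⟩ := hs (AddMonoidHom.toZModLinearMap p μ)
  refine ⟨v, ?_⟩
  ext w
  exact LinearMap.congr_fun hv w

/-- a nondegenerate form represents all functionals -/
theorem surjective_nd [Finite V] (hV : ∀ v : V, p • v = 0) (f : V →+ V →+ ZMod p)
    (hnd : ∀ x, (∀ y, f x y = 0) → x = 0) : Function.Surjective f :=
  @surjective_nd_mod V _ p _ _ (AddCommGroup.zmodModule hV) f hnd

end General

/-! ### Groups -/

section Grp

/-- a biadditive map from a function -/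
def mk2 {V W : Type*} [AddCommGroup V] [AddCommGroup W] (f : V → V → W) (h1 : ∀ x y z, f (x + y) z = f x z + f y z)
    (h2 : ∀ x y z, f x (y + z) = f x y + f x z) : V →+ V →+ W :=
  AddMonoidHom.mk' (fun v => AddMonoidHom.mk' (f v) (h2 v)) fun x y => by
    ext z
    exact h1 x y z

theorem mk2_apply {V W : Type*} [AddCommGroup V] [AddCommGroup W] {f : V → V → W}
    {h1 : ∀ x y z, f (x + y) z = f x z + f y z} {h2 : ∀ x y z, f x (y + z) = f x y + f x z} (v w : V) :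
    mk2 f h1 h2 v w = f v w := rfl

/-- group version of `iso_card`: `π : E → V` is a homomorphism with `f (π x) (π y) = 0` -/
theorem iso_group {G V : Type*} [Group G] [Finite G] [AddCommGroup V] [Finite V] {p : ℕ} [Fact p.Prime]
    (hV : ∀ v : V, p • v = 0) (f : V →+ V →+ ZMod p) (π : G →* Multiplicative V)
    (h : ∀ x y : G, f (π x).toAdd (π y).toAdd = 0) :
    Nat.card G ^ 2 ≤ Nat.card V * Nat.card π.ker * Nat.card {x : G // ∀ w, f (π x).toAdd w = 0} := by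
  let D : AddSubgroup V := Subgroup.toAddSubgroup' π.range
  have hD : ∀ x ∈ D, ∀ y ∈ D, f x y = 0 := by
    rintro x ⟨x', hx⟩ y ⟨y', hy⟩
    have e1 : x = (π x').toAdd := by rw [hx]; rfl
    have e2 : y = (π y').toAdd := by rw [hy]; rfl
    rw [e1, e2]
    exact h x' y'
  have h1 := iso_card hV f D hD
  have h2 : Nat.card π.ker * Nat.card D = Nat.card G := by
    have := Subgroup.card_mul_index π.ker
    rw [Subgroup.index_ker] at this
    exact this
  let ψ : G →* Multiplicative V := π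
  -- the preimage of the radical
  let T : Subgroup G := (AddSubgroup.toSubgroup f.ker).comap π
  have h3 : Nat.card {x : G // ∀ w, f (π x).toAdd w = 0} = Nat.card T := by
    apply Nat.card_congr
    apply Equiv.subtypeEquivRight
    intro x
    constructor
    · intro hx
      change (π x).toAdd ∈ f.ker
      rw [AddMonoidHom.mem_ker]
      ext w
      exact hx w
    · intro hx w
      have hx' : (π x).toAdd ∈ f.ker := hx
      rw [AddMonoidHom.mem_ker] at hx'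
      rw [hx']
      rfl
  have h4 : Nat.card π.ker * Nat.card (D ⊓ f.ker : AddSubgroup V) = Nat.card T := by
    have e1 := Subgroup.card_mul_index (π.comp T.subtype).ker
    rw [Subgroup.index_ker] at e1
    have e2 : Nat.card (π.comp T.subtype).ker = Nat.card π.ker := by
      refine Nat.card_congr ⟨fun x => ⟨x.1.1, x.2⟩, fun x => ⟨⟨x.1, ?_⟩, x.2⟩, fun x => rfl, fun x => rfl⟩
      change (π x.1).toAdd ∈ f.ker
      have hx := x.2
      rw [MonoidHom.mem_ker] at hx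
      rw [hx]
      exact f.ker.zero_mem
    have e3 : Nat.card (π.comp T.subtype).range = Nat.card (D ⊓ f.ker : AddSubgroup V) := by
      apply Nat.card_congr
      refine ⟨fun v => ⟨(v.1).toAdd, ?_⟩, fun v => ⟨Multiplicative.ofAdd v.1, ?_⟩, fun v => rfl, fun v => rfl⟩
      · obtain ⟨v, x, hx⟩ := v
        refine ⟨⟨x.1, hx⟩, ?_⟩
        have e : v.toAdd = (π x.1).toAdd := by rw [← hx]; rfl
        change v.toAdd ∈ f.ker
        rw [e]
        exact x.2
      · obtain ⟨v, ⟨x, hx⟩, hv⟩ := v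
        refine ⟨⟨x, ?_⟩, hx⟩
        change (π x).toAdd ∈ f.ker
        rw [hx]
        exact hv
    rw [e2, e3] at e1
    exact e1
  rw [h3, ← h4, ← h2]
  calc (Nat.card π.ker * Nat.card D) ^ 2 = Nat.card π.ker * Nat.card π.ker * Nat.card D ^ 2 := by ring
    _ ≤ Nat.card π.ker * Nat.card π.ker * (Nat.card V * Nat.card (D ⊓ f.ker : AddSubgroup V)) :=
        Nat.mul_le_mul_left _ h1
    _ = _ := by ring

/-- nondegenerate version -/
theorem iso_group_nd {G V : Type*} [Group G] [Finite G] [AddCommGroup V] [Finite V] {p : ℕ} [Fact p.Prime]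
    (hV : ∀ v : V, p • v = 0) (f : V →+ V →+ ZMod p) (π : G →* Multiplicative V)
    (h : ∀ x y : G, f (π x).toAdd (π y).toAdd = 0) (hnd : ∀ v, (∀ w, f v w = 0) → v = 0) :
    Nat.card G ^ 2 ≤ Nat.card V * Nat.card π.ker ^ 2 := by
  have h1 := iso_group hV f π h
  have h2 : Nat.card {x : G // ∀ w, f (π x).toAdd w = 0} ≤ Nat.card π.ker := by
    apply Nat.card_le_card_of_injective (fun x => (⟨x.1, by
      rw [MonoidHom.mem_ker]
      exact hnd _ x.2⟩ : π.ker))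
    intro x y hxy
    exact Subtype.ext (congrArg (fun z => (z.1 : G)) hxy)
  calc Nat.card G ^ 2 ≤ _ := h1
    _ ≤ Nat.card V * Nat.card π.ker * Nat.card π.ker := Nat.mul_le_mul_left _ h2
    _ = _ := by ring

/-- (UNI) a group is not the union of two proper subgroups -/
theorem exists_notMem {G : Type*} [Group G] {E A B : Subgroup G} (hA : ¬ E ≤ A) (hB : ¬ E ≤ B) :
    ∃ e ∈ E, e ∉ A ∧ e ∉ B := by
  rw [SetLike.not_le_iff_exists] at hA hB
  obtain ⟨a, ha, ha'⟩ := hA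
  obtain ⟨b, hb, hb'⟩ := hB
  by_cases h1 : a ∈ B
  · by_cases h2 : b ∈ A
    · refine ⟨a * b, mul_mem ha hb, fun h => ha' ?_, fun h => hb' ?_⟩
      · exact (Subgroup.mul_mem_cancel_right A h2).1 h
      · exact (Subgroup.mul_mem_cancel_left B h1).1 h
    · exact ⟨b, hb, h2, hb'⟩
  · exact ⟨a, ha, ha', h1⟩

end Grp

/-! ### The fields -/

section Fld

variable {F K : Type*} [Field F] [Field K] [Algebra F K] {p : ℕ}

theorem smulK [CharP K p] (x : K) : p • x = 0 := by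
  rw [nsmul_eq_mul, CharP.cast_eq_zero, zero_mul]

theorem smulF (K : Type*) [Field K] [Algebra F K] [CharP K p] (x : F) : p • x = 0 := by
  apply (algebraMap F K).injective
  rw [map_nsmul, smulK, map_zero]

variable [Fact p.Prime]

/-- (FUN) -/
theorem exists_lam (K : Type*) [Field K] [Algebra F K] [CharP K p] {Y : AddSubgroup F} (hY : Y ≠ ⊤) :
    ∃ lam : F →+ ZMod p, lam ≠ 0 ∧ ∀ y ∈ Y, lam y = 0 :=
  exists_functional (smulF K) hY

theorem exists_lamK [CharP K p] {Y : AddSubgroup K} (hY : Y ≠ ⊤) :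
    ∃ lam : K →+ ZMod p, lam ≠ 0 ∧ ∀ y ∈ Y, lam y = 0 :=
  exists_functional smulK hY

theorem exists_lam_ne (F K : Type*) [Field F] [Field K] [Algebra F K] [CharP K p] : ∃ lam : F →+ ZMod p, lam ≠ 0 := by
  obtain ⟨lam, h, -⟩ := exists_lam (p := p) K (Y := (⊥ : AddSubgroup F)) bot_ne_top
  exact ⟨lam, h⟩

variable {φ : K ≃ₐ[F] K} [Cub φ]

theorem lam_mul_eq_zero {lam : F →+ ZMod p} (hlam : lam ≠ 0) {x : F} (h : ∀ t : F, lam (t * x) = 0) : x = 0 := by
  by_contra hx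
  apply hlam
  ext t
  rw [← div_mul_cancel₀ t hx, h]
  rfl

/-- (ND) -/
theorem lam_tr_nondeg {lam : F →+ ZMod p} (hlam : lam ≠ 0) {x : K} (h : ∀ y : K, lam (tr φ (x * y)) = 0) : x = 0 :=
  tr_nondeg φ fun y => lam_mul_eq_zero hlam fun t => by
    rw [← tr_smul, ← mul_smul_comm]
    exact h _

variable (φ) in
/-- `(l, b) ↦ lam (Tr (l b))` -/
noncomputable def trF (lam : F →+ ZMod p) : K →+ K →+ ZMod p :=
  mk2 (fun l b => lam (tr φ (l * b))) (fun x y z => by rw [add_mul, tr_add, map_add])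
    fun x y z => by rw [mul_add, tr_add, map_add]

theorem trF_apply (lam : F →+ ZMod p) (l b : K) : trF φ lam l b = lam (tr φ (l * b)) := rfl

/-- `|B| |{l : lam (Tr (b l)) = 0 for all b ∈ B}| = |K|` -/
theorem card_trPerp [Finite K] [CharP K p] {lam : F →+ ZMod p} (hlam : lam ≠ 0) (B : AddSubgroup K) :
    Nat.card B * Nat.card (perp (trF φ lam) B) = Nat.card K :=
  card_perp_nd smulK _ B fun _ _ h => lam_tr_nondeg hlam h

/-- every functional on `K` is `x ↦ lam (Tr (l x))` -/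
theorem exists_trF [Finite K] [CharP K p] {lam : F →+ ZMod p} (hlam : lam ≠ 0) (μ : K →+ ZMod p) :
    ∃ l : K, ∀ x, μ x = lam (tr φ (l * x)) := by
  obtain ⟨l, hl⟩ := surjective_nd (p := p) smulK (trF φ lam) (fun x h => lam_tr_nondeg hlam h) μ
  exact ⟨l, fun x => by rw [← hl]; rfl⟩

end Fld

/-! ### Commutators and squares -/

section Comm

variable {F K : Type u} [Field F] [Field K] [Algebra F K] {φ : K ≃ₐ[F] K} [Cub φ]

/-- commutators in `Q2` -/
theorem comm_Q2_mem {x y : Sy φ} (hx : x ∈ Q2 φ) (hy : y ∈ Q2 φ) : ⁅x, y⁆ ∈ Z3 φ :=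
  ⟨comm_x1 x y, comm_x6 x y, by rw [comm_x5, mem_Q2.1 hx, mem_Q2.1 hy]; simp⟩

theorem comm_Q2_x3 {x y : Sy φ} (hx : x ∈ Q2 φ) (hy : y ∈ Q2 φ) :
    (⁅x, y⁆).x3 = cr φ x.x1 y.x5 - cr φ y.x1 x.x5 := by
  have h := congrArg Sy.x3 (comm_mul x y)
  have hz := comm_Q2_mem hx hy
  rw [mul_x3, mul_x3, mul_x3, hz.1, mul_x6, mem_Q2.1 hx, mem_Q2.1 hy] at h
  simp only [cr_zero_left, sh_zero, smul_zero, zero_smul, add_zero] at h
  linear_combination -h

theorem comm_Q2_x2 {x y : Sy φ} (hx : x ∈ Q2 φ) (hy : y ∈ Q2 φ) :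
    (⁅x, y⁆).x2 = tr φ (x.x1 * y.x3) + tr φ (sh φ x.x1 * y.x5) - tr φ (y.x1 * x.x3) - tr φ (sh φ y.x1 * x.x5) := by
  have h := congrArg Sy.x2 (comm_mul x y)
  have hz := comm_Q2_mem hx hy
  rw [mul_x2, mul_x2, mul_x2, hz.1, mul_x6, mem_Q2.1 hx, mem_Q2.1 hy] at h
  simp only [sh_zero, nm_zero, zero_mul, mul_zero, tr_zero, add_zero] at h
  linear_combination -h

/-- commutators in `R` -/
theorem comm_R {x y : Sy φ} (hx : x ∈ R φ) (hy : y ∈ R φ) :
    ⁅x, y⁆ = u2 φ (tr φ (x.x1 * y.x3) - tr φ (y.x1 * x.x3)) := by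
  obtain ⟨hx6, hx5⟩ := hx
  obtain ⟨hy6, hy5⟩ := hy
  apply comm_eq
  ext
  · simp only [mul_def, u2]; ring
  · simp only [mul_def, u2]; ring
  · simp only [mul_def, u2, hx5, hy5, hx6, hy6]; cub
  · simp only [mul_def, u2, hx5, hy5, hx6, hy6]; cub
  · simp only [mul_def, u2, hx5, hy5, hx6, hy6]; apply (algebraMap F K).injective; cub
  · simp only [mul_def, u2, hx5, hy5, hx6, hy6]; apply (algebraMap F K).injective; cub

theorem R_le_Q2 : R φ ≤ Q2 φ := fun _ h => h.1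
theorem Z2_le_R : Z2 φ ≤ R φ := fun _ h => ⟨h.2.1, h.2.2.1⟩
theorem Z3_le_R : Z3 φ ≤ R φ := fun _ h => ⟨h.2.1, h.2.2⟩
theorem Z3_le_Q2 : Z3 φ ≤ Q2 φ := fun _ h => h.2.1

/-- a mixed subgroup contains a regular element -/
theorem exists_regular {E : Subgroup (Sy φ)} (h : Mixed E) : ∃ e ∈ E, e.x1 ≠ 0 ∧ e.x6 ≠ 0 :=
  exists_notMem h.1 h.2

end Comm

/-! ### Projections and forms -/

section Proj

variable {F K : Type u} [Field F] [Field K] [Algebra F K] {φ : K ≃ₐ[F] K} [Cub φ]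

variable (φ) in
/-- `Q1 → F × K × K × F` -/
noncomputable def piQ1 : Q1 φ →* Multiplicative (F × K × K × F) where
  toFun x := Multiplicative.ofAdd (x.1.x6, x.1.x5, x.1.x3, x.1.x2)
  map_one' := rfl
  map_mul' x y := by
    have hx : x.1.x1 = 0 := x.2
    apply Multiplicative.toAdd.injective
    change ((x.1 * y.1).x6, (x.1 * y.1).x5, (x.1 * y.1).x3, (x.1 * y.1).x2) = _ + _
    rw [mul_x6, mul_x5, mul_x3, mul_x2, hx]
    simp only [smul_zero, cr_zero_left, sh_zero, zero_mul, mul_zero, tr_zero, nm_zero, add_zero]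
    rfl

variable (φ) in
/-- `Q2 → K × K`, `x ↦ (x1, x5)` -/
noncomputable def piQ2 : Q2 φ →* Multiplicative (K × K) where
  toFun x := Multiplicative.ofAdd (x.1.x1, x.1.x5)
  map_one' := rfl
  map_mul' x y := by
    have hy : y.1.x6 = 0 := y.2
    apply Multiplicative.toAdd.injective
    change ((x.1 * y.1).x1, (x.1 * y.1).x5) = _ + _
    rw [mul_x1, mul_x5, hy, zero_smul, add_zero]
    rfl

variable (φ) in
/-- `R → K × K`, `x ↦ (x1, x3)` -/
noncomputable def piR : R φ →* Multiplicative (K × K) where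
  toFun x := Multiplicative.ofAdd (x.1.x1, x.1.x3)
  map_one' := rfl
  map_mul' x y := by
    have hy : y.1.x6 = 0 := y.2.1
    have hy5 : y.1.x5 = 0 := y.2.2
    apply Multiplicative.toAdd.injective
    change ((x.1 * y.1).x1, (x.1 * y.1).x3) = _ + _
    rw [mul_x1, mul_x3, hy, hy5, zero_smul, cr_zero_right, add_zero, add_zero]
    rfl

variable {p : ℕ} [Fact p.Prime]

variable (φ) in
/-- `lam ∘ form` on `F × K × K × F` -/
noncomputable def fQ1 (lam : F →+ ZMod p) : (F × K × K × F) →+ (F × K × K × F) →+ ZMod p :=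
  mk2 (fun v w => lam (v.1 * w.2.2.2 - v.2.2.2 * w.1 - tr φ (v.2.1 * w.2.2.1) + tr φ (v.2.2.1 * w.2.1)))
    (fun x y z => by
      rw [← map_add]
      congr 1
      simp only [Prod.fst_add, Prod.snd_add, add_mul, tr_add]
      ring)
    fun x y z => by
      rw [← map_add]
      congr 1
      simp only [Prod.fst_add, Prod.snd_add, mul_add, tr_add]
      ring

theorem fQ1_apply (lam : F →+ ZMod p) (v w : F × K × K × F) :
    fQ1 φ lam v w = lam (v.1 * w.2.2.2 - v.2.2.2 * w.1 - tr φ (v.2.1 * w.2.2.1) + tr φ (v.2.2.1 * w.2.1)) := rfl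

theorem fQ1_nondeg {lam : F →+ ZMod p} (hlam : lam ≠ 0) (v : F × K × K × F) (h : ∀ w, fQ1 φ lam v w = 0) : v = 0 := by
  obtain ⟨a, b, c, d⟩ := v
  have h1 : a = 0 := lam_mul_eq_zero hlam fun t => by
    have := h (0, 0, 0, t)
    rw [fQ1_apply] at this
    simpa [tr_zero, mul_comm] using this
  have h2 : d = 0 := by
    rw [← neg_eq_zero]
    exact lam_mul_eq_zero hlam fun t => by
      have := h (t, 0, 0, 0)
      rw [fQ1_apply] at this
      simpa [tr_zero, mul_comm] using this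
  have h3 : b = 0 := lam_tr_nondeg (φ := φ) hlam fun t => by
    have := h (0, 0, -t, 0)
    rw [fQ1_apply] at this
    simpa [tr_zero, tr_neg] using this
  have h4 : c = 0 := lam_tr_nondeg (φ := φ) hlam fun t => by
    have := h (0, t, 0, 0)
    rw [fQ1_apply] at this
    simpa [tr_zero] using this
  rw [h1, h2, h3, h4]
  rfl

variable (φ) in
/-- `lam (Tr (a b') - Tr (a' b))` on `K × K` -/
noncomputable def fR (lam : F →+ ZMod p) : (K × K) →+ (K × K) →+ ZMod p :=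
  mk2 (fun v w => lam (tr φ (v.1 * w.2) - tr φ (w.1 * v.2)))
    (fun x y z => by
      rw [← map_add]
      congr 1
      simp only [Prod.fst_add, Prod.snd_add, add_mul, mul_add, tr_add]
      ring)
    fun x y z => by
      rw [← map_add]
      congr 1
      simp only [Prod.fst_add, Prod.snd_add, mul_add, add_mul, tr_add]
      ring

theorem fR_apply (lam : F →+ ZMod p) (v w : K × K) : fR φ lam v w = lam (tr φ (v.1 * w.2) - tr φ (w.1 * v.2)) := rfl

theorem fR_nondeg {lam : F →+ ZMod p} (hlam : lam ≠ 0) (v : K × K) (h : ∀ w, fR φ lam v w = 0) : v = 0 := by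
  obtain ⟨a, b⟩ := v
  have h3 : a = 0 := lam_tr_nondeg (φ := φ) hlam fun t => by
    have := h (0, t)
    rw [fR_apply] at this
    simpa [tr_zero] using this
  have h4 : b = 0 := lam_tr_nondeg (φ := φ) hlam fun t => by
    have := h (-t, 0)
    rw [fR_apply] at this
    simpa [tr_zero, tr_neg, mul_comm] using this
  rw [h3, h4]
  rfl

variable (φ) in
/-- `μ (a × c' - a' × c)` on `K × K` for a functional `μ` on `K` -/
noncomputable def fQ2 (μ : K →+ ZMod p) : (K × K) →+ (K × K) →+ ZMod p :=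
  mk2 (fun v w => μ (cr φ v.1 w.2 - cr φ w.1 v.2))
    (fun x y z => by
      rw [← map_add]
      congr 1
      simp only [Prod.fst_add, Prod.snd_add, cr_add_left, cr_add_right]
      ring)
    fun x y z => by
      rw [← map_add]
      congr 1
      simp only [Prod.fst_add, Prod.snd_add, cr_add_left, cr_add_right]
      ring

theorem fQ2_apply (μ : K →+ ZMod p) (v w : K × K) : fQ2 φ μ v w = μ (cr φ v.1 w.2 - cr φ w.1 v.2) := rfl

/-- the radical of `fQ2` for `μ = lam (Tr (l ·))` -/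
theorem fQ2_rad {lam : F →+ ZMod p} (hlam : lam ≠ 0) (l : K) {μ : K →+ ZMod p} (hμ : ∀ x, μ x = lam (tr φ (l * x)))
    (v : K × K) : (∀ w, fQ2 φ μ v w = 0) ↔ cr φ l v.1 = 0 ∧ cr φ l v.2 = 0 := by
  have e1 : ∀ a c : K, tr φ (l * cr φ a c) = tr φ (cr φ l a * c) := fun a c => (tr_cr φ l a c).symm
  constructor
  · intro h
    constructor
    · apply lam_tr_nondeg (φ := φ) hlam
      intro c
      have := h (0, c)
      rw [fQ2_apply, cr_zero_left, sub_zero, hμ, e1] at this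
      exact this
    · apply lam_tr_nondeg (φ := φ) hlam
      intro c
      have := h (-c, 0)
      rw [fQ2_apply, cr_zero_right, zero_sub, cr_neg_left, neg_neg, hμ, cr_comm φ c, e1] at this
      exact this
  · rintro ⟨h1, h2⟩ w
    rw [fQ2_apply, hμ, mul_sub, tr_sub, e1, h1, zero_mul, tr_zero, cr_comm φ w.1, e1, h2, zero_mul, tr_zero, sub_zero,
      map_zero]

theorem cr_surjective [Finite K] (h2 : (2 : K) ≠ 0) {a : K} (ha : a ≠ 0) : Function.Surjective (cr φ a) := by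
  apply Finite.surjective_of_injective
  intro x y hxy
  have : cr φ a (x - y) = 0 := by
    rw [sub_eq_add_neg, cr_add_right, cr_neg_right, hxy, add_neg_cancel]
  exact sub_eq_zero.1 ((cr_eq_zero φ h2 this).resolve_left ha)

/-- characteristic not two: `fQ2` is nondegenerate -/
theorem fQ2_nondeg [Finite K] (h2 : (2 : K) ≠ 0) {μ : K →+ ZMod p} (hμ : μ ≠ 0) (v : K × K)
    (h : ∀ w, fQ2 φ μ v w = 0) : v = 0 := by
  obtain ⟨a, b⟩ := v
  have h3 : a = 0 := by
    by_contra ha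
    apply hμ
    ext x
    obtain ⟨c, hc⟩ := cr_surjective (φ := φ) h2 ha x
    have := h (0, c)
    rw [fQ2_apply, cr_zero_left, sub_zero] at this
    rw [← hc]
    exact this
  have h4 : b = 0 := by
    by_contra ha
    apply hμ
    ext x
    obtain ⟨c, hc⟩ := cr_surjective (φ := φ) h2 ha x
    have := h (-c, 0)
    rw [fQ2_apply, cr_zero_right, zero_sub, cr_neg_left, neg_neg, cr_comm φ c] at this
    rw [← hc]
    exact this
  rw [h3, h4]
  rfl

theorem sq_le_sq' {a b : ℕ} (h : a ^ 2 ≤ b ^ 2) : a ≤ b := by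
  by_contra hcon
  push Not at hcon
  exact absurd h (not_le.2 (Nat.pow_lt_pow_left hcon two_ne_zero))

/-- (ISO) for subgroups of `Q1`: `|E| ≤ q⁴ |E ∩ Z1|` -/
theorem iso_Q1 [Finite F] [Finite K] [CharP K p] {lam : F →+ ZMod p} (hlam : lam ≠ 0) {E : Subgroup (Sy φ)}
    (hE : E ≤ Q1 φ) (h : ∀ x ∈ E, ∀ y ∈ E, lam (form x y) = 0) :
    Nat.card E ≤ Nat.card F * Nat.card K * Nat.card (E ⊓ Z1 φ : Subgroup (Sy φ)) := by
  have h1 := iso_group_nd (p := p) (fun v : F × K × K × F => by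
      obtain ⟨a, b, c, d⟩ := v
      simp only [Prod.smul_mk]
      rw [smulK (p := p) b, smulK (p := p) c, smulF (p := p) K a, smulF (p := p) K d]
      rfl) (fQ1 φ lam) ((piQ1 φ).comp (Subgroup.inclusion hE)) (fun x y => h _ x.2 _ y.2) (fQ1_nondeg hlam)
  have h2 : Nat.card ((piQ1 φ).comp (Subgroup.inclusion hE)).ker = Nat.card (E ⊓ Z1 φ : Subgroup (Sy φ)) := by
    refine Nat.card_congr ⟨fun x => ⟨x.1.1, x.1.2, ?_⟩, fun x => ⟨⟨x.1, x.2.1⟩, ?_⟩, fun x => rfl, fun x => rfl⟩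
    · have hx : Multiplicative.ofAdd (x.1.1.x6, x.1.1.x5, x.1.1.x3, x.1.1.x2) = 1 := x.2
      have hx' : (x.1.1.x6, x.1.1.x5, x.1.1.x3, x.1.1.x2) = ((0, 0, 0, 0) : F × K × K × F) := hx
      simp only [Prod.mk.injEq] at hx'
      exact ⟨hE x.1.2, hx'.1, hx'.2.1, hx'.2.2.1, hx'.2.2.2⟩
    · rw [MonoidHom.mem_ker]
      obtain ⟨x, hx, h1, h2, h3, h4, h5⟩ := x
      change Multiplicative.ofAdd (x.x6, x.x5, x.x3, x.x2) = 1
      rw [h2, h3, h4, h5]
      rfl
  rw [h2] at h1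
  apply sq_le_sq'
  refine h1.trans (le_of_eq ?_)
  rw [Nat.card_prod, Nat.card_prod, Nat.card_prod]
  ring

/-- (ISO) for subgroups of `R`: `|E| ≤ q³ |E ∩ Z2|` -/
theorem iso_R [Finite F] [Finite K] [CharP K p] {lam : F →+ ZMod p} (hlam : lam ≠ 0) {E : Subgroup (Sy φ)}
    (hE : E ≤ R φ) (h : ∀ x ∈ E, ∀ y ∈ E, lam (tr φ (x.x1 * y.x3) - tr φ (y.x1 * x.x3)) = 0) :
    Nat.card E ≤ Nat.card K * Nat.card (E ⊓ Z2 φ : Subgroup (Sy φ)) := by
  have h1 := iso_group_nd (p := p) (fun v : K × K => by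
      obtain ⟨a, b⟩ := v
      simp only [Prod.smul_mk]
      rw [smulK, smulK]
      rfl) (fR φ lam) ((piR φ).comp (Subgroup.inclusion hE)) (fun x y => h _ x.2 _ y.2) (fR_nondeg hlam)
  have h2 : Nat.card ((piR φ).comp (Subgroup.inclusion hE)).ker = Nat.card (E ⊓ Z2 φ : Subgroup (Sy φ)) := by
    refine Nat.card_congr ⟨fun x => ⟨x.1.1, x.1.2, ?_⟩, fun x => ⟨⟨x.1, x.2.1⟩, ?_⟩, fun x => rfl, fun x => rfl⟩
    · have hx : Multiplicative.ofAdd (x.1.1.x1, x.1.1.x3) = 1 := x.2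
      have hx' : (x.1.1.x1, x.1.1.x3) = ((0, 0) : K × K) := hx
      simp only [Prod.mk.injEq] at hx'
      exact ⟨hx'.1, (hE x.1.2).1, (hE x.1.2).2, hx'.2⟩
    · rw [MonoidHom.mem_ker]
      obtain ⟨x, hx, h1, h2, h3, h4⟩ := x
      change Multiplicative.ofAdd (x.x1, x.x3) = 1
      rw [h1, h4]
      rfl
  rw [h2] at h1
  apply sq_le_sq'
  refine h1.trans (le_of_eq ?_)
  rw [Nat.card_prod]
  ring

theorem card_ker_Q2 [Finite F] [Finite K] {E : Subgroup (Sy φ)} (hE : E ≤ Q2 φ) :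
    Nat.card ((piQ2 φ).comp (Subgroup.inclusion hE)).ker = Nat.card (E ⊓ Z3 φ : Subgroup (Sy φ)) := by
  refine Nat.card_congr ⟨fun x => ⟨x.1.1, x.1.2, ?_⟩, fun x => ⟨⟨x.1, x.2.1⟩, ?_⟩, fun x => rfl, fun x => rfl⟩
  · have hx : Multiplicative.ofAdd (x.1.1.x1, x.1.1.x5) = 1 := x.2
    have hx' : (x.1.1.x1, x.1.1.x5) = ((0, 0) : K × K) := hx
    simp only [Prod.mk.injEq] at hx'
    exact ⟨hx'.1, hE x.1.2, hx'.2⟩
  · rw [MonoidHom.mem_ker]
    obtain ⟨x, hx, h1, h2, h3⟩ := x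
    change Multiplicative.ofAdd (x.x1, x.x5) = 1
    rw [h1, h3]
    rfl

/-- (ISO) for subgroups of `Q2`, characteristic not two: `|E| ≤ q³ |E ∩ Z3|` -/
theorem iso_Q2 [Finite F] [Finite K] [CharP K p] (hp2 : (2 : K) ≠ 0) {μ : K →+ ZMod p} (hμ : μ ≠ 0)
    {E : Subgroup (Sy φ)} (hE : E ≤ Q2 φ) (h : ∀ x ∈ E, ∀ y ∈ E, μ (cr φ x.x1 y.x5 - cr φ y.x1 x.x5) = 0) :
    Nat.card E ≤ Nat.card K * Nat.card (E ⊓ Z3 φ : Subgroup (Sy φ)) := by
  have h1 := iso_group_nd (p := p) (fun v : K × K => by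
      obtain ⟨a, b⟩ := v
      simp only [Prod.smul_mk]
      rw [smulK, smulK]
      rfl) (fQ2 φ μ) ((piQ2 φ).comp (Subgroup.inclusion hE)) (fun x y => h _ x.2 _ y.2) (fQ2_nondeg hp2 hμ)
  rw [card_ker_Q2] at h1
  apply sq_le_sq'
  refine h1.trans (le_of_eq ?_)
  rw [Nat.card_prod]
  ring

/-! ### The image `D` of a subgroup of `Q2` in `K × K` -/

/-- `{(x.x1, x.x5) : x ∈ E}` -/
def D2 {E : Subgroup (Sy φ)} (hE : E ≤ Q2 φ) : AddSubgroup (K × K) where
  carrier := {v | ∃ x ∈ E, (x.x1, x.x5) = v}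
  zero_mem' := ⟨1, one_mem _, rfl⟩
  add_mem' := by
    rintro _ _ ⟨x, hx, rfl⟩ ⟨y, hy, rfl⟩
    refine ⟨x * y, mul_mem hx hy, ?_⟩
    rw [mul_x1, mul_x5, mem_Q2.1 (hE hy), zero_smul, add_zero]
    rfl
  neg_mem' := by
    rintro _ ⟨x, hx, rfl⟩
    refine ⟨x⁻¹, inv_mem hx, ?_⟩
    rw [inv_x1, inv_x5, mem_Q2.1 (hE hx), zero_smul, add_zero]
    rfl

theorem mem_D2 {E : Subgroup (Sy φ)} {hE : E ≤ Q2 φ} {v : K × K} : v ∈ D2 hE ↔ ∃ x ∈ E, (x.x1, x.x5) = v := Iff.rfl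

/-- `|E| = |D| |E ∩ Z3|` -/
theorem card_D2 [Finite F] [Finite K] {E : Subgroup (Sy φ)} (hE : E ≤ Q2 φ) :
    Nat.card E = Nat.card (D2 hE) * Nat.card (E ⊓ Z3 φ : Subgroup (Sy φ)) := by
  have e1 := Subgroup.card_mul_index ((piQ2 φ).comp (Subgroup.inclusion hE)).ker
  rw [Subgroup.index_ker, card_ker_Q2] at e1
  rw [← e1, mul_comm]
  congr 1
  apply Nat.card_congr
  refine ⟨fun v => ⟨(v.1).toAdd, ?_⟩, fun v => ⟨Multiplicative.ofAdd v.1, ?_⟩, fun v => rfl, fun v => rfl⟩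
  · obtain ⟨v, x, hx⟩ := v
    exact ⟨x.1, x.2, hx⟩
  · obtain ⟨v, x, hx, hv⟩ := v
    exact ⟨⟨x, hx⟩, hv⟩

/-- (ISO) on `D` with the radical: `|D|² ≤ |K|² |{(a,c) ∈ D : l × a = 0 = l × c}|` -/
theorem iso_D2 [Finite K] [CharP K p] {lam : F →+ ZMod p} (hlam : lam ≠ 0) (l : K) (D : AddSubgroup (K × K))
    (h : ∀ x ∈ D, ∀ y ∈ D, lam (tr φ (l * (cr φ x.1 y.2 - cr φ y.1 x.2))) = 0) :
    Nat.card D ^ 2 ≤ Nat.card K ^ 2 * Nat.card {v : K × K // v ∈ D ∧ cr φ l v.1 = 0 ∧ cr φ l v.2 = 0} := by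
  have h1 := iso_card (p := p) (fun v : K × K => by
      obtain ⟨a, b⟩ := v
      simp only [Prod.smul_mk]
      rw [smulK, smulK]
      rfl) (fQ2 φ (trF φ lam l)) D (fun x hx y hy => h x hx y hy)
  refine h1.trans (le_of_eq ?_)
  rw [Nat.card_prod, sq]
  congr 1
  apply Nat.card_congr
  apply Equiv.subtypeEquivRight
  intro v
  rw [AddSubgroup.mem_inf]
  refine and_congr Iff.rfl ?_
  rw [← fQ2_rad hlam l (fun x => rfl : ∀ x, trF φ lam l x = lam (tr φ (l * x)))]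
  rw [AddMonoidHom.mem_ker]
  constructor
  · intro hv w
    rw [hv]
    rfl
  · intro hv
    ext w
    exact hv _

end Proj

/-! ### Functionals and subgroups -/

section Fun

variable {F K : Type u} [Field F] [Field K] [Algebra F K] {φ : K ≃ₐ[F] K} [Cub φ] {p : ℕ}

/-- `{w | u4 w ∈ Y}` -/
def X4 (Y : Subgroup (Sy φ)) : AddSubgroup F where
  carrier := {w | u4 φ w ∈ Y}
  zero_mem' := one_mem Y
  add_mem' {x y} hx hy := by
    simp only [Set.mem_ofPred_eq] at hx hy ⊢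
    rw [u4_add]
    exact mul_mem hx hy
  neg_mem' {x} hx := by
    simp only [Set.mem_ofPred_eq] at hx ⊢
    have : u4 φ (-x) = (u4 φ x)⁻¹ := by
      rw [eq_inv_iff_mul_eq_one, ← u4_add, neg_add_cancel]
      rfl
    rw [this]
    exact inv_mem hx

/-- `{t | u2 t ∈ Y}` -/
def X2 (Y : Subgroup (Sy φ)) : AddSubgroup F where
  carrier := {w | u2 φ w ∈ Y}
  zero_mem' := one_mem Y
  add_mem' {x y} hx hy := by
    simp only [Set.mem_ofPred_eq] at hx hy ⊢
    rw [u2_add]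
    exact mul_mem hx hy
  neg_mem' {x} hx := by
    simp only [Set.mem_ofPred_eq] at hx ⊢
    have : u2 φ (-x) = (u2 φ x)⁻¹ := by
      rw [eq_inv_iff_mul_eq_one, ← u2_add, neg_add_cancel]
      rfl
    rw [this]
    exact inv_mem hx

/-- `{x.x3 | x ∈ Y ∩ Z3}` -/
def X3 (Y : Subgroup (Sy φ)) : AddSubgroup K where
  carrier := {b | ∃ x ∈ Y, x ∈ Z3 φ ∧ x.x3 = b}
  zero_mem' := ⟨1, one_mem Y, one_mem _, rfl⟩
  add_mem' := by
    rintro _ _ ⟨x, hx, hx', rfl⟩ ⟨y, hy, hy', rfl⟩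
    refine ⟨x * y, mul_mem hx hy, mul_mem hx' hy', ?_⟩
    rw [mul_x3, hx'.1, hy'.2.1, cr_zero_left, zero_smul, add_zero, add_zero]
  neg_mem' := by
    rintro _ ⟨x, hx, hx', rfl⟩
    refine ⟨x⁻¹, inv_mem hx, inv_mem hx', ?_⟩
    rw [inv_x3, hx'.1, hx'.2.1, cr_zero_left, zero_smul, add_zero, sub_zero]

theorem mem_X4 {Y : Subgroup (Sy φ)} {w : F} : w ∈ X4 Y ↔ u4 φ w ∈ Y := Iff.rfl
theorem mem_X2 {Y : Subgroup (Sy φ)} {w : F} : w ∈ X2 Y ↔ u2 φ w ∈ Y := Iff.rfl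
theorem mem_X3 {Y : Subgroup (Sy φ)} {b : K} : b ∈ X3 Y ↔ ∃ x ∈ Y, x ∈ Z3 φ ∧ x.x3 = b := Iff.rfl

theorem X4_eq_top {Y : Subgroup (Sy φ)} (h : X4 Y = ⊤) : Z1 φ ≤ Y := fun x hx => by
  rw [eq_u4 hx, ← mem_X4, h]
  trivial

/-- `|Y ∩ Z1|` -/
theorem card_X4 (Y : Subgroup (Sy φ)) : Nat.card (Y ⊓ Z1 φ : Subgroup (Sy φ)) = Nat.card (X4 Y) := by
  refine Nat.card_congr ⟨fun x => ⟨x.1.x4, ?_⟩, fun w => ⟨u4 φ w.1, w.2, u4_mem _⟩, fun x => ?_, fun w => rfl⟩
  · rw [mem_X4, ← eq_u4 x.2.2]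
    exact x.2.1
  · exact Subtype.ext (eq_u4 x.2.2).symm

/-- `|Y ∩ Z3| = |X3 Y| |Y ∩ Z2|` -/
theorem card_X3 [Finite F] [Finite K] (Y : Subgroup (Sy φ)) :
    Nat.card (Y ⊓ Z3 φ : Subgroup (Sy φ)) = Nat.card (X3 Y) * Nat.card (Y ⊓ Z2 φ : Subgroup (Sy φ)) := by
  let ψ : (Y ⊓ Z3 φ : Subgroup (Sy φ)) →* Multiplicative K :=
    { toFun := fun x => Multiplicative.ofAdd x.1.x3
      map_one' := rfl
      map_mul' := fun x y => by
        apply Multiplicative.toAdd.injective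
        change (x.1 * y.1).x3 = x.1.x3 + y.1.x3
        rw [mul_x3, x.2.2.1, y.2.2.2.1, cr_zero_left, zero_smul, add_zero, add_zero] }
  have e1 := Subgroup.card_mul_index ψ.ker
  rw [Subgroup.index_ker] at e1
  rw [← e1, mul_comm]
  congr 1
  · apply Nat.card_congr
    refine ⟨fun v => ⟨(v.1).toAdd, ?_⟩, fun v => ⟨Multiplicative.ofAdd v.1, ?_⟩, fun v => rfl, fun v => rfl⟩
    · obtain ⟨v, x, hx⟩ := v
      exact ⟨x.1, x.2.1, x.2.2, hx⟩
    · obtain ⟨v, x, hx, hx', hv⟩ := v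
      exact ⟨⟨x, hx, hx'⟩, hv⟩
  · refine Nat.card_congr ⟨fun x => ⟨x.1.1, x.1.2.1, ?_⟩, fun x => ⟨⟨x.1, x.2.1, Z2_le_Z3 x.2.2⟩, x.2.2.2.2.2⟩,
      fun x => rfl, fun x => rfl⟩
    obtain ⟨⟨x, hx, hx'⟩, hv⟩ := x
    exact ⟨hx'.1, hx'.2.1, hx'.2.2, hv⟩

variable [Fact p.Prime] [CharP K p]

/-- a nonzero functional on `F` vanishing on `Y ∩ Z1` -/
theorem exists_lam_Z1 {Y : Subgroup (Sy φ)} (h : ¬ Z1 φ ≤ Y) :
    ∃ lam : F →+ ZMod p, lam ≠ 0 ∧ ∀ w, u4 φ w ∈ Y → lam w = 0 :=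
  exists_lam K (Y := X4 Y) fun hY => h (X4_eq_top hY)

/-- a nonzero functional on `F` vanishing on `Y ∩ U2` -/
theorem exists_lam_U2 {Y : Subgroup (Sy φ)} (h : ∃ t, u2 φ t ∉ Y) :
    ∃ lam : F →+ ZMod p, lam ≠ 0 ∧ ∀ t, u2 φ t ∈ Y → lam t = 0 :=
  exists_lam K (Y := X2 Y) fun hY => by
    obtain ⟨t, ht⟩ := h
    apply ht
    rw [← mem_X2, hY]
    trivial

/-- a nonzero functional on `K` vanishing on the `x3`-part of `Y ∩ Z3` -/
theorem exists_lam_Z3 {Y : Subgroup (Sy φ)} (h : X3 Y ≠ ⊤) :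
    ∃ μ : K →+ ZMod p, μ ≠ 0 ∧ ∀ x ∈ Y, x ∈ Z3 φ → μ x.x3 = 0 := by
  obtain ⟨μ, h1, h2⟩ := exists_lamK (p := p) h
  exact ⟨μ, h1, fun x hx hx' => h2 _ ⟨x, hx, hx', rfl⟩⟩

theorem X3_eq_top {Y : Subgroup (Sy φ)} (h : X3 Y = ⊤) (h2 : Z2 φ ≤ Y) : Z3 φ ≤ Y := fun x hx => by
  have h1 : x.x3 ∈ X3 Y := by rw [h]; trivial
  obtain ⟨y, hy, hy', hxy⟩ := h1
  have h3 : x = y * (y⁻¹ * x) := by group
  rw [h3]
  refine mul_mem hy (h2 ?_)
  have h4 : y⁻¹ * x ∈ Z3 φ := mul_mem (inv_mem hy') hx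
  refine ⟨h4.1, h4.2.1, h4.2.2, ?_⟩
  rw [mul_x3, inv_x3, inv_x1, hxy, hx.2.1, hx.2.2, hy'.1, hy'.2.1]
  simp [cr_zero_left, cr_zero_right]

end Fun

end Cfsg.Agent.H544.TE
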